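import Groth.Agent.Lib.AmpleDesc5.Pinched
import Groth.Agent.Lib.Ample18.Avoid
import Groth.Agent.Lib.TensorMod.PullTensor
import Groth.Agent.Lib.ModLimH13.Sections
import Groth.Agent.Lib.VeryAmple11.BundleTwist
import Groth.Agent.Lib.ChevAff4.Main
import Groth.Agent.Lib.RefHull26.Rank

/-!
# Descent of sections along a pinched finite morphism
-/

set_option autoImplicit false
set_option linter.style.haveILetI false
set_option backward.isDefEq.respectTransparency false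

universe u

open CategoryTheory Limits AlgebraicGeometry TopologicalSpace Opposite

namespace Groth.Agent.AmpleDesc5

open Groth.Agent.M1
open Groth.Agent.M2 (IsGenerator pullSec)

variable {X X'' : Scheme.{u}} {ν : X'' ⟶ X}

theorem isGenerator_pullSec (f : X'' ⟶ X) {E : X.Modules} (hE : PicF.IsInvertible E) {U : X.Opens} {e : Γ(E, U)}
    (he : IsGenerator e) : IsGenerator (pullSec f E e) :=
  RH26.isGenerator_of_gen fun _ hy => (Amp.gen_pullSec_iff f hE hy e).2 (Amp.gen_of_isGenerator he hy)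

theorem coeff_inj' {E : X.Modules} {U : X.Opens} {e : Γ(E, U)} (he : IsGenerator e) {a b : Γ(X, U)}
    (h : a • e = b • e) : a = b :=
  (he U le_rfl).1 (by
    show a • M2.res E le_rfl e = b • M2.res E le_rfl e
    rw [Amp.res_self]; exact h)

/-- Comparison of two iterated pullbacks with the same composite. -/
theorem exists_comparison {T Y₁ Y₂ : Scheme.{u}} (p₁ : T ⟶ Y₁) (g₁ : Y₁ ⟶ X) (p₂ : T ⟶ Y₂) (g₂ : Y₂ ⟶ X)
    (w : p₂ ≫ g₂ = p₁ ≫ g₁) (E : X.Modules) :
    ∃ θ : (Scheme.Modules.pullback p₂).obj ((Scheme.Modules.pullback g₂).obj E) ≅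
        (Scheme.Modules.pullback p₁).obj ((Scheme.Modules.pullback g₁).obj E),
      ∀ (U : X.Opens) (v : Γ(E, U)) (W : T.Opens) (e₁ : W ≤ p₁ ⁻¹ᵁ g₁ ⁻¹ᵁ U) (e₂ : W ≤ p₂ ⁻¹ᵁ g₂ ⁻¹ᵁ U),
        θ.hom.app W (mres _ e₂ (pullSec p₂ _ (pullSec g₂ E v))) =
          mres _ e₁ (pullSec p₁ _ (pullSec g₁ E v)) := by
  let c₁ := (ModLimH13.cmp p₁ g₁ (h := p₁ ≫ g₁) rfl).app E
  let c₂ := (ModLimH13.cmp p₂ g₂ (h := p₁ ≫ g₁) w).app E
  refine ⟨c₂ ≪≫ c₁.symm, fun U v W e₁ e₂ => ?_⟩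
  have h1 := ModLimH13.cmp_res' p₁ g₁ E (h := p₁ ≫ g₁) rfl (W := U) (W' := g₁ ⁻¹ᵁ U) (W'' := W) le_rfl e₁ v
  have h2 := ModLimH13.cmp_res' p₂ g₂ E (h := p₁ ≫ g₁) w (W := U) (W' := g₂ ⁻¹ᵁ U) (W'' := W) le_rfl e₂ v
  simp only [ModLimH13.res', mres_id] at h1 h2
  have h3 : c₁.hom.app W (mres _ e₁ (pullSec p₁ _ (pullSec g₁ E v))) =
      c₂.hom.app W (mres _ e₂ (pullSec p₂ _ (pullSec g₂ E v))) := h1.trans h2.symm
  refine (congrArg (c₁.inv.app W) h3).symm.trans ?_
  exact congrArg (fun α => α.app W (mres _ e₁ (pullSec p₁ _ (pullSec g₁ E v)))) c₁.hom_inv_id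

variable [IsReduced X] [Surjective ν] {E : X.Modules} (hE : PicF.IsInvertible E)
include hE

theorem pullSec_injective (U : X.Opens) : Function.Injective (pullSec ν E : Γ(E, U) → _) := fun s s' h => by
  refine Amp.eq_of_gm fun x hx => ?_
  obtain ⟨D, e, hxD, hDU, -, he⟩ := Amp.exists_isGenerator hE hx
  obtain ⟨a, ha⟩ := Amp.exists_coeff he (mres E hDU s)
  obtain ⟨b, hb⟩ := Amp.exists_coeff he (mres E hDU s')
  have h1 : pullSec ν E (mres E hDU s) = pullSec ν E (mres E hDU s') := by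
    rw [PicDesc21.pullSec_mres, PicDesc21.pullSec_mres, h]
  rw [← ha, ← hb, M2.pullSec_smul, M2.pullSec_smul] at h1
  have h2 : mres E hDU s = mres E hDU s' := by
    rw [← ha, ← hb, app_injective ν D (coeff_inj' (isGenerator_pullSec ν hE he) h1)]
  rw [← Amp.gm_res hDU hxD, ← Amp.gm_res hDU hxD]
  exact congrArg _ h2

/-- Sections upstairs which agree on the preimage of the closed subscheme with sections from downstairs come from
downstairs. -/
theorem exists_descend {J : X.IdealSheafData} (hJ : Pinched ν J)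
    (t : Γ((Scheme.Modules.pullback ν).obj E, ν ⁻¹ᵁ ⊤))
    (h : ∀ x : X, ∃ D : X.Opens, x ∈ D ∧ ∃ a : Γ(E, D),
      pullSec (J.comap ν).subschemeι _ (mres _ (ν.preimage_mono (le_top : D ≤ ⊤)) t) =
        pullSec (J.comap ν).subschemeι _ (pullSec ν E a)) :
    ∃ s : Γ(E, ⊤), pullSec ν E s = t := by
  let ι := (J.comap ν).subschemeι
  have hνE : PicF.IsInvertible ((Scheme.Modules.pullback ν).obj E) := PicLoc.isInvertible_pullback ν hE
  have loc : ∀ x : X, ∃ D : X.Opens, x ∈ D ∧ ∃ c : Γ(E, D),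
      pullSec ν E c = mres _ (ν.preimage_mono (le_top : D ≤ ⊤)) t := fun x => by
    obtain ⟨D₀, hxD₀, a₀, ha₀⟩ := h x
    obtain ⟨D, e, hxD, hle, -, he⟩ := Amp.exists_isGenerator hE hxD₀
    have heν := isGenerator_pullSec ν hE he
    obtain ⟨a, ha⟩ := Amp.exists_coeff he (mres E hle a₀)
    obtain ⟨b, hb⟩ := Amp.exists_coeff heν (mres _ (ν.preimage_mono (le_top : D ≤ ⊤)) t)
    have h1 := congrArg (mres _ (ι.preimage_mono (ν.preimage_mono hle))) ha₀
    rw [← PicDesc21.pullSec_mres ι _ (ν.preimage_mono hle), ← PicDesc21.pullSec_mres ι _ (ν.preimage_mono hle),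
      mres_mres, ← PicDesc21.pullSec_mres ν E hle, ← ha, ← hb,
      M2.pullSec_smul ν, M2.pullSec_smul, M2.pullSec_smul] at h1
    have hι : ι.app _ b = ι.app _ (ν.app D a) :=
      coeff_inj' (isGenerator_pullSec ι hνE heν) h1
    obtain ⟨c, hc⟩ := hJ.exists_app ν (O := D) b fun y hy => ⟨D, le_rfl, hy, a, by rw [ores_id]; exact hι⟩
    refine ⟨D, hxD, c • e, ?_⟩
    rw [M2.pullSec_smul, hc, hb]
  choose D hxD c hc using loc
  obtain ⟨s, hs, -⟩ := TopCat.Sheaf.existsUnique_gluing' (⟨E.presheaf, E.isSheaf⟩ : TopCat.Sheaf Ab X)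
    D ⊤ (fun x => homOfLE le_top) (fun x _ => Opens.mem_iSup.2 ⟨x, hxD x⟩) c fun i j => by
      refine pullSec_injective (ν := ν) hE _ ?_
      show pullSec ν E (mres E (inf_le_left : D i ⊓ D j ≤ D i) (c i)) =
        pullSec ν E (mres E (inf_le_right : D i ⊓ D j ≤ D j) (c j))
      rw [PicDesc21.pullSec_mres ν E inf_le_left, PicDesc21.pullSec_mres ν E inf_le_right, hc, hc, mres_mres,
        mres_mres]
  refine ⟨s, TopCat.Sheaf.eq_of_locally_eq' (⟨_, ((Scheme.Modules.pullback ν).obj E).isSheaf⟩ : TopCat.Sheaf Ab X'')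
    (fun x => ν ⁻¹ᵁ D x) _ (fun x => homOfLE (ν.preimage_mono le_top))
    (fun y _ => Opens.mem_iSup.2 ⟨ν y, hxD _⟩) _ _ fun x => ?_⟩
  show mres _ (ν.preimage_mono le_top) (pullSec ν E s) = mres _ (ν.preimage_mono le_top) t
  rw [← PicDesc21.pullSec_mres ν E (le_top : D x ≤ ⊤), show mres E le_top s = c x from hs x, hc]

/-- A section on the closed subscheme whose pullback extends upstairs gives a section downstairs. -/
theorem exists_sec_of_lift {J : X.IdealSheafData} (hJ : Pinched ν J)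
    (hlift : ∀ τ : Γ((Scheme.Modules.pullback (J.comap ν).subschemeι).obj ((Scheme.Modules.pullback ν).obj E), ⊤),
      ∃ t : Γ((Scheme.Modules.pullback ν).obj E, ⊤), pullSec (J.comap ν).subschemeι _ t = τ ∧
        Function.Surjective ((J.comap ν).subschemeι.app (CohB1.genLocus _ (M1.secHom t))) ∧
        ∀ (C : Set X''), IsClosed C → ∀ w ∈ CohB1.genLocus _ (M1.secHom t), w ∉ C →
          ∃ b : Γ(X'', CohB1.genLocus _ (M1.secHom t)), w ∈ X''.basicOpen b ∧ ∀ c ∈ C, c ∉ X''.basicOpen b)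
    (σ : Coh.structureModule J.subscheme ⟶ (Scheme.Modules.pullback J.subschemeι).obj E) :
    ∃ s : Coh.structureModule X ⟶ E,
      J.subschemeι ⁻¹ᵁ CohB1.genLocus E s = CohB1.genLocus _ σ ∧
        Function.Surjective ((J.comap ν).subschemeι.app (ν ⁻¹ᵁ CohB1.genLocus E s)) ∧
        ∀ (C : Set X''), IsClosed C → ∀ w ∈ ν ⁻¹ᵁ CohB1.genLocus E s, w ∉ C →
          ∃ b : Γ(X'', ν ⁻¹ᵁ CohB1.genLocus E s), w ∈ X''.basicOpen b ∧ ∀ c ∈ C, c ∉ X''.basicOpen b := by
  let ι := (J.comap ν).subschemeι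
  let jn := J.subschemeι
  let ν' := Scheme.IdealSheafData.subschemeMap (J.comap ν) J ν (J.le_map_comap ν)
  have w : ν' ≫ jn = ι ≫ ν := Scheme.IdealSheafData.subschemeMap_subschemeι _ _ _ _
  obtain ⟨θ, hθ⟩ := exists_comparison ι ν ν' jn w E
  obtain ⟨t, ht, hsurj, hbasic⟩ := hlift (θ.hom.app ⊤ (pullSec ν' _ (Amp.gval σ)))
  obtain ⟨s, hs⟩ := exists_descend hE hJ t fun x => by
    obtain ⟨D, e, hxD, -, hD, he⟩ := Amp.exists_isGenerator hE (show x ∈ (⊤ : X.Opens) from trivial)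
    obtain ⟨r, hr⟩ := Amp.exists_coeff (isGenerator_pullSec jn hE he)
      (mres _ (jn.preimage_mono (le_top : D ≤ ⊤)) (Amp.gval σ))
    obtain ⟨a, rfl⟩ := jn.app_surjective D hD r
    refine ⟨D, hxD, a • e, ?_⟩
    have hle : ι ⁻¹ᵁ ν ⁻¹ᵁ D ≤ ν' ⁻¹ᵁ jn ⁻¹ᵁ D := by
      rw [← Scheme.Hom.comp_preimage, ← Scheme.Hom.comp_preimage, w]
    have h1 := hθ D (a • e) (ι ⁻¹ᵁ ν ⁻¹ᵁ D) le_rfl hle
    rw [M2.pullSec_smul jn, hr, PicDesc21.pullSec_mres ν' _ (jn.preimage_mono (le_top : D ≤ ⊤)), mres_mres,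
      app_mres θ.hom] at h1
    rw [PicDesc21.pullSec_mres ι _ (ν.preimage_mono (le_top : D ≤ ⊤))]
    refine (congrArg (mres _ _) ht).trans (h1.trans ?_)
    exact mres_id _ _ _
  refine ⟨M1.secHom s, ?_, ?_⟩
  · ext z
    show jn z ∈ CohB1.genLocus E (M1.secHom s) ↔ z ∈ CohB1.genLocus _ σ
    haveI : Surjective ν' := ⟨fun z => by
      obtain ⟨y, hy⟩ := ν.surjective (jn z)
      have hy' : y ∈ Set.range ι := by
        rw [Scheme.IdealSheafData.range_subschemeι, Scheme.IdealSheafData.support_comap]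
        exact show ν y ∈ J.support from hy.symm ▸ J.range_subschemeι.le ⟨z, rfl⟩
      obtain ⟨y', rfl⟩ := hy'
      exact ⟨y', jn.isEmbedding.injective ((congrArg (fun φ => φ y') w).trans hy)⟩⟩
    obtain ⟨z', rfl⟩ := ν'.surjective z
    have hνz : ν (ι z') = jn (ν' z') := (congrArg (fun φ => φ z') w).symm
    have hjE := PicLoc.isInvertible_pullback jn hE
    have hνE := PicLoc.isInvertible_pullback ν hE
    rw [Amp.mem_genLocus_iff hE, Amp.mem_genLocus_iff hjE, Amp.gval_secHom, ← hνz,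
      ← Amp.gen_pullSec_iff ν hE (U := ⊤) (y := ι z') trivial, hs,
      ← Amp.gen_pullSec_iff ι hνE (U := ⊤) (y := z') trivial,
      ← Amp.gen_pullSec_iff ν' hjE (U := ⊤) (y := z') trivial, ht]
    exact Amp.gen_map_iso θ (U := ⊤) (x := z') trivial _
  · have hG : CohB1.genLocus _ (M1.secHom t) = ν ⁻¹ᵁ CohB1.genLocus E (M1.secHom s) := by
      ext y
      show y ∈ CohB1.genLocus _ (M1.secHom t) ↔ ν y ∈ CohB1.genLocus E (M1.secHom s)
      rw [Amp.mem_genLocus_iff (PicLoc.isInvertible_pullback ν hE), Amp.mem_genLocus_iff hE, Amp.gval_secHom,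
        Amp.gval_secHom, ← Amp.gen_pullSec_iff ν hE (U := ⊤) (y := y) trivial s, hs]
      rfl
    rw [← hG]
    exact ⟨hsurj, hbasic⟩

/-- A locus upstairs avoiding the preimage of the closed subscheme descends. -/
theorem exists_hasSec_disjoint [CompactSpace X] [UniversallyClosed ν] [IsAffineHom ν] {J : X.IdealSheafData}
    (hJ : Pinched ν J) (σ : Coh.structureModule X'' ⟶ (Scheme.Modules.pullback ν).obj E)
    (hA : IsAffineOpen (CohB1.genLocus _ σ))
    (hd : ∀ y ∈ CohB1.genLocus _ σ, ν y ∉ J.support) :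
    ∃ (k : ℕ) (G : X.Opens), Amp.HasSec E (k + 1) G ∧ IsAffineOpen G ∧ ν ⁻¹ᵁ G = CohB1.genLocus _ σ := by
  classical
  let ι := (J.comap ν).subschemeι
  let M := (Scheme.Modules.pullback ν).obj E
  have hM : PicF.IsInvertible M := PicLoc.isInvertible_pullback ν hE
  choose V e hxV _ hVA he using fun x : X => Amp.exists_isGenerator hE (show x ∈ (⊤ : X.Opens) from trivial)
  obtain ⟨T, hT⟩ := isCompact_univ.elim_finite_subcover (fun x => (V x : Set X)) (fun x => (V x).isOpen)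
    fun x _ => Set.mem_iUnion.2 ⟨x, hxV x⟩
  choose b hb using fun x => Amp.exists_coeff (isGenerator_pullSec ν hE (he x))
    (mres M (le_top : ν ⁻¹ᵁ V x ≤ ⊤) (Amp.gval σ))
  have hnil : ∀ x, IsNilpotent (ι.app _ (b x)) := fun x => by
    rw [Scheme.isNilpotent_iff_basicOpen_eq_bot_of_isCompact (((hVA x).preimage ν).preimage ι).isCompact]
    refine le_bot_iff.1 fun z hz => ?_
    rw [← Scheme.preimage_basicOpen] at hz
    have hzG : ι z ∈ CohB1.genLocus M σ :=
      ((Amp.genLocus_inf_eq_basicOpen hM σ (isGenerator_pullSec ν hE (he x)) (hb x)).ge hz).1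
    refine hd _ hzG ?_
    have : ι z ∈ (J.comap ν).support := (J.comap ν).range_subschemeι.le ⟨z, rfl⟩
    rw [Scheme.IdealSheafData.support_comap] at this
    exact this
  choose p hp using hnil
  let k := T.sup p
  let ψ := M2.pullTensorPowIso ν E (k + 1)
  let t := ψ.inv.app ⊤ (Amp.pw (Amp.gval σ) (k + 1))
  have hEk := Amp.isInvertible_tensorPow hE (k + 1)
  obtain ⟨s, hs⟩ := exists_descend hEk hJ t fun y => by
    obtain ⟨x, hxT, hyx⟩ := Set.mem_iUnion₂.1 (hT (Set.mem_univ y))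
    refine ⟨V x, hyx, 0, ?_⟩
    have h1 : mres _ (ν.preimage_mono (le_top : V x ≤ ⊤)) t =
        (b x) ^ (k + 1) • ψ.inv.app _ (Amp.pw (pullSec ν E (e x)) (k + 1)) := by
      refine (app_mres ψ.inv _ _).symm.trans ?_
      rw [show mres _ (ν.preimage_mono (le_top : V x ≤ ⊤)) (Amp.pw (Amp.gval σ) (k + 1)) =
        Amp.pw (mres M le_top (Amp.gval σ)) (k + 1) from Amp.res_pw _ _ _, ← hb x, Amp.pw_smul]
      exact Scheme.Modules.Hom.app_smul _ _ _
    have h0 : (ι.app _ (b x)) ^ (k + 1) = 0 := by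
      obtain ⟨d, hd'⟩ := Nat.exists_eq_add_of_le ((Finset.le_sup (f := p) hxT).trans (Nat.le_succ k))
      rw [show k + 1 = p x + d from hd', pow_add, hp x, zero_mul]
    rw [h1, M2.pullSec_smul, map_pow, h0, zero_smul,
      show pullSec ν (CohB1.tensorPow E (k + 1)) (0 : Γ(CohB1.tensorPow E (k + 1), V x)) = 0 from map_zero _,
      show pullSec ι _ (0 : Γ((Scheme.Modules.pullback ν).obj (CohB1.tensorPow E (k + 1)), ν ⁻¹ᵁ V x)) = 0 from map_zero _]
  have hG : ν ⁻¹ᵁ CohB1.genLocus _ (M1.secHom s) = CohB1.genLocus M σ := by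
    ext y
    show ν y ∈ CohB1.genLocus _ (M1.secHom s) ↔ y ∈ CohB1.genLocus M σ
    rw [Amp.mem_genLocus_iff hEk, Amp.mem_genLocus_iff hM, Amp.gval_secHom,
      ← Amp.gen_pullSec_iff ν hEk (U := ⊤) (y := y) trivial s, hs]
    exact (Amp.gen_map_iso ψ.symm (U := ⊤) (x := y) trivial _).trans (Amp.gen_pw_succ hM (U := ⊤) (x := y) trivial _ k)
  refine ⟨k, _, ⟨M1.secHom s, rfl⟩, ?_, hG⟩
  let G := CohB1.genLocus _ (M1.secHom s)
  haveI : IsAffine (ν ⁻¹ᵁ G).toScheme := hG.symm ▸ hA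
  haveI : UniversallyClosed (ν ∣_ G) :=
    MorphismProperty.of_isPullback (P := @UniversallyClosed) (isPullback_morphismRestrict ν G).flip inferInstance
  haveI : Surjective (ν ∣_ G) :=
    MorphismProperty.of_isPullback (P := @Surjective) (isPullback_morphismRestrict ν G).flip inferInstance
  exact (ChevAff4.isAffine_of_surjective (ν ∣_ G) : IsAffine G.toScheme)

end Groth.Agent.AmpleDesc5
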