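import Groth.Agent.Lib.AmpleDesc5.Lift
import Groth.Agent.Lib.AmpleDesc5.Descend
import Groth.Agent.Lib.AmpleFin18.Surj
import Groth.Agent.Lib.AmpleHomeo5.Main

/-!
# Ampleness descends along a finite morphism which is an isomorphism off a proper closed subset
-/

set_option autoImplicit false
set_option linter.style.haveILetI false
set_option backward.isDefEq.respectTransparency false

universe u

open CategoryTheory Limits AlgebraicGeometry TopologicalSpace Opposite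

namespace Groth.Agent.AmpleDesc5

open Groth.Agent.M1

theorem app_app_of_eq {T Y X : Scheme.{u}} (p : T ⟶ Y) (g : Y ⟶ X) {h : T ⟶ X} (w : p ≫ g = h) (U : X.Opens)
    (a : Γ(X, U)) : ∃ le : p ⁻¹ᵁ g ⁻¹ᵁ U ≤ h ⁻¹ᵁ U, p.app (g ⁻¹ᵁ U) (g.app U a) = ores le (h.app U a) := by
  subst w
  exact ⟨le_rfl, (ores_id _ _).symm⟩

variable {R : Type u} [CommRing R] [IsNoetherianRing R] {X X'' : Scheme.{u}}

theorem isAmple_of_pinched [IsNoetherian X] [IsReduced X] (q : X ⟶ Spec (CommRingCat.of R))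
    [LocallyOfFiniteType q] [IsSeparated q] (ν : X'' ⟶ X) [IsFinite ν] [Surjective ν] (Z : Closeds X)
    [IsIso (ν ∣_ (⟨(Z : Set X)ᶜ, Z.isClosed.isOpen_compl⟩ : X.Opens))]
    (hZ : IsProper ((Scheme.IdealSheafData.vanishingIdeal Z).subschemeι ≫ q))
    {L : X.Modules} (hL : PicF.IsInvertible L) (hamp : CohB1.IsAmple ((Scheme.Modules.pullback ν).obj L)) :
    CohB1.IsAmple L := by
  classical
  obtain ⟨n, hJ⟩ := exists_pinched ν Z
  let I := Scheme.IdealSheafData.vanishingIdeal Z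
  let J := I ^ (n + 1)
  have hsupp : (J.support : Set X) = Z := by
    show ((I ^ (n + 1)).support : Set X) = Z
    rw [Scheme.IdealSheafData.support_pow_succ]
    exact Scheme.IdealSheafData.coe_support_vanishingIdeal Z
  let jn := J.subschemeι
  have hJI : J ≤ I := fun U => Ideal.pow_le_self n.succ_ne_zero
  let i := Scheme.IdealSheafData.inclusion hJI
  have hi : i ≫ jn = I.subschemeι := Scheme.IdealSheafData.inclusion_subschemeι hJI
  haveI : IsClosedImmersion (i ≫ jn) := by rw [hi]; infer_instance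
  haveI : IsClosedImmersion i := IsClosedImmersion.of_comp i jn
  haveI : Surjective i := ⟨fun z => by
    have hz : jn z ∈ Set.range I.subschemeι := by
      rw [Scheme.IdealSheafData.range_subschemeι, Scheme.IdealSheafData.coe_support_vanishingIdeal, ← hsupp]
      exact J.range_subschemeι.le ⟨z, rfl⟩
    obtain ⟨z', hz'⟩ := hz
    exact ⟨z', jn.isEmbedding.injective ((congrArg (fun φ => φ z') hi).trans hz')⟩⟩
  haveI : IsProper (I.subschemeι ≫ q) := hZ
  haveI : UniversallyClosed (i ≫ (jn ≫ q)) := by rw [← Category.assoc, hi]; infer_instance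
  haveI : UniversallyClosed (jn ≫ q) := UniversallyClosed.of_comp_surjective i (jn ≫ q)
  haveI hZn : IsProper (jn ≫ q) := {}
  -- the module is ample on the thickening
  have hampZn : CohB1.IsAmple ((Scheme.Modules.pullback jn).obj L) := by
    refine (AmpleHomeo5.isAmple_pullback_iff i (PicLoc.isInvertible_pullback jn hL)).1 ?_
    rw [RA.isAmple_pullback_comp_iff, RA.isAmple_pullback_congr hi]
    refine AmpleFin18.isAmple_of_finite_surjective (I.subschemeι ≫ q) (PicLoc.isInvertible_pullback _ hL)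
      (pullback.fst I.subschemeι ν) ?_
    rw [RA.isAmple_pullback_comp_iff, RA.isAmple_pullback_congr pullback.condition,
      ← RA.isAmple_pullback_comp_iff]
    exact Amp.isAmple_pullback_of_isAffineHom _ hamp
  -- the pulled back thickening
  let ι := (J.comap ν).subschemeι
  let ν' := Scheme.IdealSheafData.subschemeMap (J.comap ν) J ν (J.le_map_comap ν)
  have w : ν' ≫ jn = ι ≫ ν := Scheme.IdealSheafData.subschemeMap_subschemeι _ _ _ _
  haveI : IsProper (ι ≫ ν) := inferInstance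
  haveI : IsProper (ν' ≫ jn) := by rw [w]; infer_instance
  haveI : IsProper ν' := IsProper.of_comp ν' jn
  haveI : IsAffineHom (ν' ≫ jn) := by rw [w]; infer_instance
  haveI : IsAffineHom ν' := IsAffineHom.of_comp ν' jn
  haveI : IsProper (ι ≫ ν ≫ q) := by
    rw [← Category.assoc, ← w, Category.assoc]; infer_instance
  haveI : CompactSpace X := inferInstance
  refine Amp.isAmple_iff.2 ⟨hL, inferInstance, fun x => ?_⟩
  by_cases hxZ : x ∈ (Z : Set X)
  swap
  · obtain ⟨y, rfl⟩ := ν.surjective x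
    obtain ⟨k, H, ⟨σ₀, hσ₀⟩, hyH, hHV, hHA⟩ :=
      Amp.exists_hasSec_le hamp (x := y) (V := ν ⁻¹ᵁ ⟨(Z : Set X)ᶜ, Z.isClosed.isOpen_compl⟩) hxZ
    let σ := σ₀ ≫ (M2.pullTensorPowIso ν L (k + 1)).inv
    have hσ : CohB1.genLocus _ σ = H :=
      (Amp.genLocus_comp_iso (M2.pullTensorPowIso ν L (k + 1)).symm σ₀).trans hσ₀
    obtain ⟨p, G, hG, hGA, hνG⟩ := exists_hasSec_disjoint (Amp.isInvertible_tensorPow hL (k + 1)) hJ σ
      (by rw [hσ]; exact hHA) (fun z hz hzs => hHV (hσ.le hz) (hsupp.le hzs))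
    refine ⟨(k + 1) * (p + 1) - 1, G, hG.of_tensorPow.of_eq
      (Nat.sub_add_cancel (Nat.mul_pos k.succ_pos p.succ_pos)).symm, ?_, hGA⟩
    exact hνG.symm.le (hσ.symm.le hyH)
  · obtain ⟨z, rfl⟩ : x ∈ Set.range jn := by
      rw [Scheme.IdealSheafData.range_subschemeι, hsupp]; exact hxZ
    obtain ⟨-, -, hcov⟩ := Amp.isAmple_iff.1 hampZn
    obtain ⟨m, H, hH, hzH, hHA⟩ := hcov z
    let E₀ := CohB1.tensorPow L (m + 1)
    have hE₀ : PicF.IsInvertible E₀ := Amp.isInvertible_tensorPow hL _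
    have hM : CohB1.IsAmple ((Scheme.Modules.pullback ν).obj E₀) :=
      Amp.isAmple_of_iso (M2.pullTensorPowIso ν L (m + 1)).symm
        ((Amp.isAmple_tensorPow_iff (PicLoc.isInvertible_pullback ν hL) m.succ_pos).2 hamp)
    obtain ⟨k, hk, hlift⟩ := exists_lift (ν ≫ q) hM ι
    obtain ⟨k, rfl⟩ := Nat.exists_eq_succ_of_ne_zero hk.ne'
    let E := CohB1.tensorPow E₀ (k + 1)
    have hE : PicF.IsInvertible E := Amp.isInvertible_tensorPow hE₀ _
    obtain ⟨σ₀, hσ₀⟩ := (((hH.powPow (PicLoc.isInvertible_pullback jn hL) k).to_tensorPow).map_iso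
      (M2.pullTensorPowIso jn L (m + 1)).symm)
    let σ := σ₀ ≫ (M2.pullTensorPowIso jn E₀ (k + 1)).inv
    have hσ : CohB1.genLocus _ σ = H :=
      (Amp.genLocus_comp_iso (M2.pullTensorPowIso jn E₀ (k + 1)).symm σ₀).trans hσ₀
    obtain ⟨s, hs, hsurj, hbasic⟩ := exists_sec_of_lift hE hJ
      (fun τ => hlift _ (M2.pullTensorPowIso ν E₀ (k + 1)) τ) σ
    let O := CohB1.genLocus E s
    have hOA : IsAffineOpen (jn ⁻¹ᵁ O) := by
      show IsAffineOpen (jn ⁻¹ᵁ CohB1.genLocus E s)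
      rw [hs, hσ]; exact hHA
    have hzO : z ∈ jn ⁻¹ᵁ O := hs.ge (hσ.ge hzH)
    obtain ⟨U, hU, hxU, hUO⟩ := exists_isAffineOpen_mem_and_subset (x := jn z) (U := O) hzO
    obtain ⟨f, hf, hzf⟩ := hOA.exists_basicOpen_le (V := jn ⁻¹ᵁ O ⊓ jn ⁻¹ᵁ U) ⟨z, hzO, hxU⟩ hzO
    have hle : ι ⁻¹ᵁ ν ⁻¹ᵁ O ≤ ν' ⁻¹ᵁ jn ⁻¹ᵁ O := by
      rw [← Scheme.Hom.comp_preimage, ← Scheme.Hom.comp_preimage, w]
    have hge : ν' ⁻¹ᵁ jn ⁻¹ᵁ O ≤ ι ⁻¹ᵁ ν ⁻¹ᵁ O := by
      rw [← Scheme.Hom.comp_preimage, ← Scheme.Hom.comp_preimage, w]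
    let h := ores hle (ν'.app (jn ⁻¹ᵁ O) f)
    have hD : ∀ v : (J.comap ν).subscheme, v ∈ ι ⁻¹ᵁ ν ⁻¹ᵁ O →
        (v ∈ (J.comap ν).subscheme.basicOpen h ↔ ν' v ∈ J.subscheme.basicOpen f) := fun v hv => by
      refine ⟨fun hv' => ?_, fun hv' => ?_⟩
      · have := ((J.comap ν).subscheme.basicOpen_res _ (homOfLE hle).op).le hv'
        exact (Scheme.preimage_basicOpen ν' f).ge this.2
      · exact ((J.comap ν).subscheme.basicOpen_res _ (homOfLE hle).op).ge
          ⟨hv, (Scheme.preimage_basicOpen ν' f).le hv'⟩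
    obtain ⟨g, hg⟩ := hsurj h
    let C : Set X'' := ν ⁻¹' ((U : Set X)ᶜ)
    have hC : IsClosed C := U.isOpen.isClosed_compl.preimage ν.continuous
    let IT : Ideal Γ(X'', ν ⁻¹ᵁ O) := ⨅ c : {c : ↥(ν ⁻¹ᵁ O) // c.1 ∈ C},
      (IsLocalRing.maximalIdeal (X''.presheaf.stalk c.1.1)).comap (X''.presheaf.germ (ν ⁻¹ᵁ O) c.1.1 c.1.2).hom
    have hIT : ∀ b, b ∈ IT ↔ ∀ c ∈ C, c ∉ X''.basicOpen b := fun b => by
      simp only [IT, Ideal.mem_iInf, Ideal.mem_comap, IsLocalRing.mem_maximalIdeal, mem_nonunits_iff]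
      refine ⟨fun hb c hc hcb => hb ⟨⟨c, X''.basicOpen_le b hcb⟩, hc⟩ ((X''.mem_basicOpen b c _).1 hcb),
        fun hb c hu => hb c.1.1 c.2 ((X''.mem_basicOpen b c.1.1 c.1.2).2 hu)⟩
    let φ := (ι.app (ν ⁻¹ᵁ O)).hom
    have hQ : IsAffineOpen (ι ⁻¹ᵁ ν ⁻¹ᵁ O) := by
      rw [le_antisymm hle hge]; exact hOA.preimage ν'
    have hrad : g ∈ (IT ⊔ RingHom.ker φ).radical := by
      rw [Ideal.radical_eq_sInf, Submodule.mem_sInf]
      rintro p ⟨hp, hpp⟩
      have hker : RingHom.ker φ ≤ p := le_sup_right.trans hp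
      haveI := hpp
      haveI : (Ideal.map φ p).IsPrime := Ideal.map_isPrime_of_surjective hsurj hker
      let v := hQ.fromSpec (⟨Ideal.map φ p, inferInstance⟩ : PrimeSpectrum _)
      have hv : v ∈ ι ⁻¹ᵁ ν ⁻¹ᵁ O := hQ.range_fromSpec.le ⟨_, rfl⟩
      have hmem : ∀ b, b ∈ p ↔ v ∉ (J.comap ν).subscheme.basicOpen (ι.app (ν ⁻¹ᵁ O) b) := fun b => by
        have h1 : b ∈ p ↔ φ b ∈ Ideal.map φ p := by
          refine ⟨Ideal.mem_map_of_mem φ, fun hb => ?_⟩
          have : b ∈ (Ideal.map φ p).comap φ := hb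
          rwa [Ideal.comap_map_of_surjective φ hsurj, ← RingHom.ker_eq_comap_bot, sup_eq_left.2 hker] at this
        have h2 : v ∈ (J.comap ν).subscheme.basicOpen (φ b) ↔
            (⟨Ideal.map φ p, inferInstance⟩ : PrimeSpectrum _) ∈ PrimeSpectrum.basicOpen (φ b) := by
          rw [← hQ.fromSpec_preimage_basicOpen (φ b)]
          rfl
        rw [h1, show ι.app (ν ⁻¹ᵁ O) b = φ b from rfl, h2, PrimeSpectrum.mem_basicOpen, not_not]
      have hvC : ι v ∈ C := by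
        by_contra hvC
        obtain ⟨b, hbv, hbC⟩ := hbasic C hC (ι v) hv hvC
        refine (hmem b).1 (le_sup_left.trans hp ((hIT b).2 hbC)) ?_
        rw [← Scheme.preimage_basicOpen]; exact hbv
      rw [hmem, hg, hD v hv]
      intro hvf
      have h3 : jn (ν' v) ∈ U := (hf hvf).2
      rw [show jn (ν' v) = ν (ι v) from congrArg (fun ψ => ψ v) w] at h3
      exact hvC h3
    obtain ⟨N, hN⟩ := hrad
    have hN' : g ^ (N + 1) ∈ IT ⊔ RingHom.ker φ := by
      rw [pow_succ]; exact Ideal.mul_mem_right _ _ hN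
    obtain ⟨b, hb, c, hc, hbc⟩ := Submodule.mem_sup.1 hN'
    have hιb : ι.app (ν ⁻¹ᵁ O) b = h ^ (N + 1) := by
      have := congrArg φ hbc
      rw [map_add, RingHom.mem_ker.1 hc, add_zero, map_pow] at this
      rw [← hg]; exact this
    obtain ⟨a, ha⟩ := hJ.exists_app ν b fun y hy => by
      obtain ⟨D, hDA, hyD, hDO⟩ := exists_isAffineOpen_mem_and_subset (x := y) (U := O) hy
      obtain ⟨a, ha⟩ := jn.app_surjective D hDA (ores (jn.preimage_mono hDO) (f ^ (N + 1)))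
      refine ⟨D, hDO, hyD, a, ?_⟩
      obtain ⟨l₁, e₁⟩ := app_app_of_eq ν' jn w D a
      obtain ⟨l₂, e₂⟩ := app_app_of_eq ι ν (h := ι ≫ ν) rfl D a
      have hleD : ι ⁻¹ᵁ ν ⁻¹ᵁ D ≤ ν' ⁻¹ᵁ jn ⁻¹ᵁ D := by
        rw [← Scheme.Hom.comp_preimage, ← Scheme.Hom.comp_preimage, w]
      calc ι.app (ν ⁻¹ᵁ D) (ores (ν.preimage_mono hDO) b)
          = ores (ι.preimage_mono (ν.preimage_mono hDO)) (h ^ (N + 1)) := by rw [← hιb, ores_app']
        _ = ores hleD (ν'.app _ (jn.app D a)) := by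
          rw [ha, ← ores_app', ores_ores, show h = ores hle (ν'.app (jn ⁻¹ᵁ O) f) from rfl, ← map_pow,
            ← map_pow, ores_ores]
        _ = ι.app (ν ⁻¹ᵁ D) (ν.app D a) := by
          rw [e₁, e₂, ores_ores]
    have haU : X.basicOpen a ≤ U := fun v hv => by
      obtain ⟨y, rfl⟩ := ν.surjective v
      by_contra hvU
      have hy : y ∈ X''.basicOpen b := by rw [← ha, ← Scheme.preimage_basicOpen]; exact hv
      exact (hIT b).1 hb y hvU hy
    have hza : jn z ∈ X.basicOpen a := by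
      obtain ⟨y, hy⟩ := ν.surjective (jn z)
      obtain ⟨v, rfl⟩ : y ∈ Set.range ι := by
        rw [Scheme.IdealSheafData.range_subschemeι, Scheme.IdealSheafData.support_comap]
        exact show ν y ∈ J.support from hy.symm ▸ J.range_subschemeι.le ⟨z, rfl⟩
      have hv : ν' v = z := jn.isEmbedding.injective ((congrArg (fun ψ => ψ v) w).trans hy)
      have hvO : v ∈ ι ⁻¹ᵁ ν ⁻¹ᵁ O := show ν (ι v) ∈ O by rw [hy]; exact hzO
      have h1 : v ∈ (J.comap ν).subscheme.basicOpen h := (hD v hvO).2 (hv.symm ▸ hzf)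
      have h2 : ι v ∈ X''.basicOpen b := by
        show v ∈ ι ⁻¹ᵁ X''.basicOpen b
        rw [Scheme.preimage_basicOpen, hιb, Scheme.basicOpen_pow _ _ N.succ_pos]
        exact h1
      rw [← ha, ← Scheme.preimage_basicOpen] at h2
      exact hy ▸ h2
    obtain ⟨N', hN''⟩ := Amp.exists_hasSec_basicOpen hE s a
    refine ⟨(m + 1) * ((k + 1) * (N' + 1)) - 1, X.basicOpen a, hN''.of_tensorPow.of_tensorPow.of_eq
      (Nat.sub_add_cancel (Nat.mul_pos m.succ_pos (Nat.mul_pos k.succ_pos N'.succ_pos))).symm, hza, ?_⟩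
    have : X.basicOpen (ores hUO a) = X.basicOpen a := by
      refine (X.basicOpen_res a (homOfLE hUO).op).trans ?_
      exact inf_eq_right.2 haU
    rw [← this]
    exact hU.basicOpen _

end Groth.Agent.AmpleDesc5
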