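import Groth.Agent.Lib.AmpleImm18.Main
import Groth.Agent.Lib.CIProj14.Van
import Groth.Agent.Lib.CohFound.RelVan
import Groth.Agent.Lib.RelAmple18.UnivClosed
import Groth.Agent.Lib.Twist.Ample
import Groth.Agent.Lib.TateZero11.Transfer

/-!
# Sections on a proper closed subscheme extend for large powers of an ample module
-/

set_option autoImplicit false
set_option linter.style.haveILetI false
set_option backward.isDefEq.respectTransparency false

universe u

open CategoryTheory Limits AlgebraicGeometry TopologicalSpace Opposite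

namespace Groth.Agent.AmpleDesc5

open Groth.Agent.M1

variable {R : Type u} [CommRing R] [IsNoetherianRing R] {X : Scheme.{u}}

/-- Global sections extend from a closed subscheme of projective space, in large degree. -/
theorem surjective_pullSec_proj {n : ℕ} {Z : Scheme.{u}} (e : Z ⟶ CohB1.ProjSpace n R) [IsClosedImmersion e] :
    ∃ d₀ : ℕ, ∀ d, d₀ ≤ d → Function.Surjective
      (M2.pullSec e (CohB1.tensorPow (_root_.Twist.twistProjSpace n R 1) d) (U := ⊤)) := by
  haveI : IsLocallyNoetherian (CohB1.ProjSpace n R) := CohFound.ProjNum.isLocallyNoetherian_projSpace n R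
  haveI : IsProper (CohB1.ProjSpace.toSpec n R) := ProjSpace.isProper_toSpec n R
  have hO : CohB1.IsAmple (_root_.Twist.twistProjSpace n R 1) :=
    Twist.isAmple_twist (CohB1.polyGrading n R) _ (fun i => ProjSpace.X_mem' n R i)
      (ProjSpace.irrelevant_le_span n R) (d := 1) one_pos
  obtain ⟨e', he', hej⟩ := CIProj14.isIso_lift e e.ker.subschemeι (Scheme.IdealSheafData.ker_subschemeι _).symm
  haveI := he'
  have hI : Coh.IsCoh (ClSub.idealMod e.ker) :=
    M1.isCoh_kernel (Snapper.isCoh_of_isInvertible (PicLoc.isInvertible_structureModule _))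
      (M1.isQCoh_push e.ker.subschemeι (M1.isQCoh_structureModule _)) _
  obtain ⟨d₀, hd₀⟩ := CohFound.exists_vanishing_all (CohB1.ProjSpace.toSpec n R) hO hI
  refine ⟨d₀, fun d hd => ?_⟩
  let M := CohB1.tensorPow (_root_.Twist.twistProjSpace n R 1) d
  have hM : PicF.IsInvertible M := Amp.isInvertible_tensorPow hO.1 d
  have hsurj : Function.Surjective (M2.pullSec e.ker.subschemeι M (U := ⊤)) :=
    CIProj14.surjective_pullSec e.ker M hM ((CohFound.subsingleton_HH_iff _ _).2
      (CohFound.subsingleton_hc_of_iso (M2.tensorComm (ClSub.idealMod e.ker) M) 1 ⊤ (hd₀ d hd 1 one_pos)))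
  haveI : IsIso ((Scheme.Modules.pullbackPushforwardAdjunction e').unit.app
      ((Scheme.Modules.pullback e.ker.subschemeι).obj M)) :=
    CIProj14.isIso_unit_of_isIso e' _ (Twist.isQCoh_of_isInvertible (Twist.isInvertible_pullback _ hM))
  rw [← hej]
  intro t
  let t' := ((Scheme.Modules.pullbackComp e' e.ker.subschemeι).inv.app M).app ⊤ t
  obtain ⟨v, hv⟩ := (ConcreteCategory.bijective_of_isIso
    (((Scheme.Modules.pullbackPushforwardAdjunction e').unit.app
      ((Scheme.Modules.pullback e.ker.subschemeι).obj M)).app ⊤)).2 t'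
  obtain ⟨w, rfl⟩ := hsurj v
  refine ⟨w, (ConcreteCategory.bijective_of_isIso
    (((Scheme.Modules.pullbackComp e' e.ker.subschemeι).inv.app M).app ⊤)).1 ?_⟩
  exact (VA11.pullbackComp_inv_pullSec e' e.ker.subschemeι M w).trans hv

/-- For a suitable power of an ample module, every section on a proper closed subscheme extends; the locus
of the extension is quasi-affine and its functions restrict onto those of the closed subscheme. -/
theorem exists_lift (q : X ⟶ Spec (CommRingCat.of R)) [LocallyOfFiniteType q] {M : X.Modules}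
    (hM : CohB1.IsAmple M) {Z : Scheme.{u}} (ι : Z ⟶ X) [IsClosedImmersion ι] [IsProper (ι ≫ q)] :
    ∃ k : ℕ, 0 < k ∧ ∀ (E : X.Modules) (_ : E ≅ CohB1.tensorPow M k)
      (t : Γ((Scheme.Modules.pullback ι).obj E, ⊤)), ∃ s : Γ(E, ⊤), M2.pullSec ι E s = t ∧
        Function.Surjective (ι.app (CohB1.genLocus E (M1.secHom s))) ∧
        ∀ (C : Set X), IsClosed C → ∀ w ∈ CohB1.genLocus E (M1.secHom s), w ∉ C →
          ∃ b : Γ(X, CohB1.genLocus E (M1.secHom s)), w ∈ X.basicOpen b ∧ ∀ c ∈ C, c ∉ X.basicOpen b := by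
  obtain ⟨m₀, hm⟩ := AmpleImm18.exists_immersion_pow_of_isAmple q hM
  obtain ⟨n, j, hj, hjq, ⟨e₀⟩⟩ := hm (m₀ + 1) (Nat.le_succ _)
  haveI := hj
  let P := CohB1.ProjSpace n R
  haveI : IsProper (CohB1.ProjSpace.toSpec n R) := ProjSpace.isProper_toSpec n R
  haveI : IsProper ((ι ≫ j) ≫ CohB1.ProjSpace.toSpec n R) := by
    rw [Category.assoc, hjq]; infer_instance
  haveI : IsProper (ι ≫ j) := IsProper.of_comp (ι ≫ j) (CohB1.ProjSpace.toSpec n R)
  haveI : IsClosedImmersion (ι ≫ j) :=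
    IsClosedImmersion.of_isPreimmersion _ ((ι ≫ j).isClosedMap.isClosed_range)
  have hO : CohB1.IsAmple (_root_.Twist.twistProjSpace n R 1) :=
    Twist.isAmple_twist (CohB1.polyGrading n R) _ (fun i => ProjSpace.X_mem' n R i)
      (ProjSpace.irrelevant_le_span n R) (d := 1) one_pos
  obtain ⟨d₀, hd₀⟩ := surjective_pullSec_proj (ι ≫ j)
  let N := CohB1.tensorPow (_root_.Twist.twistProjSpace n R 1) (d₀ + 1)
  have hN : PicF.IsInvertible N := Amp.isInvertible_tensorPow hO.1 _
  refine ⟨(m₀ + 1) * (d₀ + 1), Nat.mul_pos m₀.succ_pos d₀.succ_pos, fun E φ t => ?_⟩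
  let ψ : (Scheme.Modules.pullback j).obj N ≅ E :=
    M2.pullTensorPowIso j _ (d₀ + 1) ≪≫ M2.tensorPowIso e₀ _ ≪≫ M2.tensorPowPow M (m₀ + 1) (d₀ + 1) ≪≫ φ.symm
  have hE : PicF.IsInvertible E :=
    Twist.isInvertible_of_iso ψ (Twist.isInvertible_pullback j hN)
  obtain ⟨S, hS⟩ := hd₀ (d₀ + 1) (Nat.le_succ _)
    (((Scheme.Modules.pullbackComp ι j).hom.app N).app ⊤
      (((Scheme.Modules.pullback ι).map ψ.inv).app ⊤ t))
  let s : Γ(E, ⊤) := ψ.hom.app ⊤ (M2.pullSec j N S)
  let G := CohB1.genLocus E (M1.secHom s)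
  let O := CohB1.genLocus N (M1.secHom S)
  have hG : G = j ⁻¹ᵁ O := by
    ext z
    show z ∈ CohB1.genLocus E (M1.secHom s) ↔ j z ∈ CohB1.genLocus N (M1.secHom S)
    rw [Amp.mem_genLocus_iff hE, Amp.mem_genLocus_iff hN, Amp.gval_secHom, Amp.gval_secHom]
    exact (Amp.gen_map_iso ψ (U := ⊤) (x := z) trivial _).trans (Amp.gen_pullSec_iff j hN (U := ⊤) (y := z) trivial S)
  have hOA : IsAffineOpen O :=
    RA.isAffineOpen_genLocus_of_universallyClosed (CohB1.ProjSpace.toSpec n R)
      ((Amp.isAmple_tensorPow_iff hO.1 (Nat.succ_pos d₀)).2 hO) _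
  refine ⟨s, ?_, ?_, ?_⟩
  · have h1 : M2.pullSec ι _ (M2.pullSec j N S) = ((Scheme.Modules.pullback ι).map ψ.inv).app ⊤ t :=
      (ConcreteCategory.bijective_of_isIso (((Scheme.Modules.pullbackComp ι j).hom.app N).app ⊤)).1
        ((ModLimH13.pullbackComp_pullSec ι j N S).trans hS)
    refine (Amp.map_pullSec ι ψ.hom (M2.pullSec j N S)).symm.trans ?_
    rw [h1]
    exact congrArg (fun α => α.app ⊤ t) (((Scheme.Modules.pullback ι).mapIso ψ).inv_hom_id)
  · have hsur : Function.Surjective (ι.app (j ⁻¹ᵁ O)) := fun z => by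
      obtain ⟨a, rfl⟩ := (ι ≫ j).app_surjective O hOA z
      exact ⟨j.app O a, rfl⟩
    rw [show CohB1.genLocus E (M1.secHom s) = j ⁻¹ᵁ O from hG]
    exact hsur
  · rw [show CohB1.genLocus E (M1.secHom s) = j ⁻¹ᵁ O from hG]
    intro C hC w hw hwC
    obtain ⟨D, hD, rfl⟩ := j.isEmbedding.isInducing.isClosed_iff.1 hC
    obtain ⟨a, ha, hwa⟩ := hOA.exists_basicOpen_le (V := O ⊓ ⟨Dᶜ, hD.isOpen_compl⟩) ⟨j w, hw, hwC⟩ hw
    refine ⟨j.app O a, ?_, fun c hc hmem => ?_⟩
    · rw [← Scheme.preimage_basicOpen]; exact hwa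
    · rw [← Scheme.preimage_basicOpen] at hmem
      exact (ha hmem).2 hc

end Groth.Agent.AmpleDesc5
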