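import Groth.Agent.Lib.AmpleDesc5.Reduced
import Groth.Agent.Lib.PushFin12.Basic
import Groth.Agent.Lib.ModM1.Push
import Groth.Agent.Lib.ModM1.LocFree
import Groth.Agent.Lib.RedSep.Basic
import Groth.Agent.Lib.RelAmple18.Ops

/-!
# Descent of relative ampleness along finite surjective morphisms (EGA III 2.6.2)
-/

set_option autoImplicit false
set_option linter.style.haveILetI false
set_option backward.isDefEq.respectTransparency false

universe u

open CategoryTheory Limits AlgebraicGeometry TopologicalSpace Opposite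

namespace Groth.Agent.AmpleDesc5

open Groth.Agent.M1

variable {X X' Y : Scheme.{u}}

/-- Flatness over an open is stable under base change. -/
theorem flat_restrict_of_isPullback {W W' : Scheme.{u}} {p' : W' ⟶ X'} {g' : W' ⟶ W} {g : X' ⟶ X} {p : W ⟶ X}
    (H : IsPullback p' g' g p) (T : X.Opens) (h : Flat (g ∣_ T)) : Flat (g' ∣_ (p ⁻¹ᵁ T)) := by
  have hR : IsPullback (g' ∣_ (p ⁻¹ᵁ T)) ((g' ⁻¹ᵁ (p ⁻¹ᵁ T)).ι ≫ p') ((p ∣_ T) ≫ T.ι) g := by
    rw [morphismRestrict_ι]
    exact (isPullback_morphismRestrict g' (p ⁻¹ᵁ T)).paste_vert H.flip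
  let l := (isPullback_morphismRestrict g T).lift (g' ∣_ (p ⁻¹ᵁ T) ≫ (p ∣_ T)) ((g' ⁻¹ᵁ (p ⁻¹ᵁ T)).ι ≫ p')
    (by rw [Category.assoc]; exact hR.w)
  have h1 : IsPullback (g' ∣_ (p ⁻¹ᵁ T)) l (p ∣_ T) (g ∣_ T) :=
    IsPullback.of_bot (t := isPullback_morphismRestrict g T) (s := by
      rw [IsPullback.lift_snd]; exact hR) ((isPullback_morphismRestrict g T).lift_fst _ _ _).symm
  exact MorphismProperty.of_isPullback (P := @Flat) h1.flip h

theorem flat_restrict_of_isFinLocFree (g : X' ⟶ X) [IsFinite g] (T : X.Opens)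
    (h : FlatMod.IsFinLocFree (((Coh.push g).obj (Coh.structureModule X')).restrict T.ι)) : Flat (g ∣_ T) := by
  have h' := M2.isFinLocFree_of_iso (M1.pushRestrictIso (isPullback_morphismRestrict g T) (Coh.structureModule X') ≪≫
    (Scheme.Modules.pushforward (g ∣_ T)).mapIso (Scheme.Modules.restrictUnitIso (g ⁻¹ᵁ T).ι)) h
  haveI : IsFinite (g ∣_ T) := MorphismProperty.of_isPullback (isPullback_morphismRestrict g T).flip inferInstance
  exact ((PushFin12.finLocFree_iff (g ∣_ T)).1 ⟨inferInstance, h'⟩).2.1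

theorem isFinLocFree_of_flat [IsLocallyNoetherian X] (g : X' ⟶ X) [IsFinite g] (T : X.Opens) (h : Flat (g ∣_ T)) :
    FlatMod.IsFinLocFree (((Coh.push g).obj (Coh.structureModule X')).restrict T.ι) := by
  haveI := h
  haveI : IsFinite (g ∣_ T) := MorphismProperty.of_isPullback (isPullback_morphismRestrict g T).flip inferInstance
  haveI : LocallyOfFiniteType (g ∣_ T) := inferInstance
  haveI : LocallyOfFinitePresentation (g ∣_ T) :=
    LocallyOfFinitePresentation.iff_locallyOfFiniteType.2 inferInstance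
  have h' : FlatMod.IsFinLocFree ((Scheme.Modules.pushforward (g ∣_ T)).obj (Coh.structureModule (g ⁻¹ᵁ T).toScheme)) :=
    ((PushFin12.finLocFree_iff (g ∣_ T)).2 ⟨inferInstance, inferInstance, inferInstance⟩).2
  exact M2.isFinLocFree_of_iso (M1.pushRestrictIso (isPullback_morphismRestrict g T) (Coh.structureModule X') ≪≫
    (Scheme.Modules.pushforward (g ∣_ T)).mapIso (Scheme.Modules.restrictUnitIso (g ⁻¹ᵁ T).ι)).symm h'

/-- The good points. -/
def GoodAt (g : X' ⟶ X) (x : X) : Prop :=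
  (IsDomain (X.presheaf.stalk x) ∧ IsIntegrallyClosed (X.presheaf.stalk x)) ∨ ∃ T : X.Opens, x ∈ T ∧ Flat (g ∣_ T)

theorem goodAt_of_isPullback {W W' : Scheme.{u}} {p' : W' ⟶ X'} {g' : W' ⟶ W} {g : X' ⟶ X} {p : W ⟶ X}
    (H : IsPullback p' g' g p) (y : W) (hb : IsDomain (X.presheaf.stalk (p y)) → Function.Bijective (p.stalkMap y))
    (h : GoodAt g (p y)) : GoodAt g' y := by
  rcases h with ⟨h1, h2⟩ | ⟨T, hT, hf⟩
  · let e := RingEquiv.ofBijective (p.stalkMap y).hom (hb h1)
    haveI := h1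
    haveI := h2
    exact Or.inl ⟨MulEquiv.isDomain (X.presheaf.stalk (p y)) e.symm.toMulEquiv, IsIntegrallyClosed.of_equiv e⟩
  · exact Or.inr ⟨p ⁻¹ᵁ T, hT, flat_restrict_of_isPullback H T hf⟩

theorem isProper_vanishing {W : Scheme.{u}} (k : W ⟶ X) [IsClosedImmersion k] (Z : Closeds X)
    (hr : Set.range k = Z) (q : X ⟶ Y) [IsProper (k ≫ q)] :
    IsProper ((Scheme.IdealSheafData.vanishingIdeal Z).subschemeι ≫ q) := by
  let ι := (Scheme.IdealSheafData.vanishingIdeal Z).subschemeι
  have hle : k.ker ≤ ι.ker := by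
    rw [Scheme.IdealSheafData.ker_subschemeι, ← Scheme.IdealSheafData.le_support_iff_le_vanishingIdeal]
    intro x hx
    have hx : x ∈ Set.range k := hr.ge hx
    show x ∈ (k.ker.support : Set X)
    rw [Scheme.Hom.support_ker]
    exact subset_closure hx
  have hl := IsClosedImmersion.lift_fac k ι hle
  haveI : IsClosedImmersion (IsClosedImmersion.lift k ι hle ≫ k) := by rw [hl]; infer_instance
  haveI : IsClosedImmersion (IsClosedImmersion.lift k ι hle) := IsClosedImmersion.of_comp _ k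
  show IsProper (ι ≫ q)
  rw [← hl, Category.assoc]
  infer_instance

theorem stalkMap_injective_of_reduced {W : Scheme.{u}} (r : W ⟶ X) [IsClosedImmersion r] [Surjective r] (y : W)
    [_root_.IsReduced (X.presheaf.stalk (r y))] : Function.Injective (r.stalkMap y) := by
  refine (injective_iff_map_eq_zero _).2 fun a ha => ?_
  obtain ⟨U, hy, s, rfl⟩ := X.presheaf.exists_germ_eq a
  rw [Scheme.Hom.germ_stalkMap_apply] at ha
  obtain ⟨O, hyO, iU, iV, hO'⟩ := W.presheaf.germ_eq y (U := r ⁻¹ᵁ U) (V := r ⁻¹ᵁ U) hy hy (r.app U s) 0 (by rw [map_zero]; exact ha)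
  have hOle : O ≤ r ⁻¹ᵁ U := iU.le
  have hO : ores hOle (r.app U s) = W.presheaf.map iV.op 0 := hO'
  obtain ⟨O', hO'', rfl⟩ : ∃ O' : X.Opens, r y ∈ O' ∧ r ⁻¹ᵁ O' = O := by
    obtain ⟨O', hO'o, hO'e⟩ := r.isEmbedding.isInducing.isOpen_iff.1 O.isOpen
    exact ⟨⟨O', hO'o⟩, hO'e.ge hyO, Opens.ext hO'e⟩
  obtain ⟨V, hV, hyV, hVle⟩ := exists_isAffineOpen_mem_and_subset (x := r y) (U := U ⊓ O') ⟨hy, hO''⟩
  have hnil : IsNilpotent (ores (hVle.trans inf_le_left) s) := by
    rw [Scheme.isNilpotent_iff_basicOpen_eq_bot_of_isCompact hV.isCompact]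
    refine le_bot_iff.1 fun v hv => ?_
    obtain ⟨w, rfl⟩ := r.surjective v
    have h1 : w ∈ r ⁻¹ᵁ X.basicOpen s := ((X.basicOpen_res s _).le hv).2
    rw [Scheme.preimage_basicOpen] at h1
    have h2 : w ∈ W.basicOpen (ores hOle (r.app U s)) :=
      (W.basicOpen_res _ _).ge ⟨(hVle (X.basicOpen_le _ hv)).2, h1⟩
    rw [show ores hOle (r.app U s) = 0 from hO.trans (map_zero _), Scheme.basicOpen_zero] at h2
    exact h2
  have hg := (hnil.map (X.presheaf.germ V (r y) hyV).hom).eq_zero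
  rwa [show X.presheaf.germ V (r y) hyV (ores (hVle.trans inf_le_left) s) = X.presheaf.germ U (r y) hy s from
    X.presheaf.germ_res_apply _ _ _ _] at hg

variable {R : Type u} [CommRing R] [IsNoetherianRing R]

/-- The case of an affine base. -/
theorem isAmple_affine (q : X ⟶ Spec (CommRingCat.of R)) [LocallyOfFiniteType q] [QuasiCompact q] (g : X' ⟶ X)
    [IsFinite g] [Surjective g] (Z : Closeds X)
    (hZ : IsProper ((Scheme.IdealSheafData.vanishingIdeal Z).subschemeι ≫ q))
    (hreg : ∀ x : X, x ∉ (Z : Set X) → GoodAt g x)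
    {L : X.Modules} (hL : PicF.IsInvertible L) (hamp : CohB1.IsAmple ((Scheme.Modules.pullback g).obj L)) :
    CohB1.IsAmple L := by
  haveI : IsLocallyNoetherian X := LocallyOfFiniteType.isLocallyNoetherian q
  haveI : CompactSpace X := QuasiCompact.compactSpace_of_compactSpace q
  haveI : IsNoetherian X := {}
  haveI : IsSeparated (g ≫ q) := RA.isSeparated_of_isRelAmple (g ≫ q) ((RA.isRelAmple_iff_isAmple _).2 hamp)
  haveI : X'.IsSeparated := ⟨by
    rw [show terminal.from X' = (g ≫ q) ≫ terminal.from _ from Subsingleton.elim _ _]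
    infer_instance⟩
  haveI : X.IsSeparated := ChevAff4.isSeparated_of_surjective g
  haveI : IsSeparated (q ≫ terminal.from _) := by rw [terminal.comp_from]; infer_instance
  haveI : IsSeparated q := IsSeparated.of_comp q (terminal.from _)
  let r := (Scheme.IdealSheafData.vanishingIdeal (⊤ : Closeds X)).subschemeι
  haveI := RedSepLib.isReduced_vanishingIdeal_subscheme (⊤ : Closeds X)
  haveI : Surjective r := ⟨fun x => by
    have : x ∈ Set.range r := by
      rw [Scheme.IdealSheafData.range_subschemeι, Scheme.IdealSheafData.coe_support_vanishingIdeal]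
      trivial
    exact this⟩
  haveI : IsNoetherian (Scheme.IdealSheafData.vanishingIdeal (⊤ : Closeds X)).subscheme := {
    toIsLocallyNoetherian := LocallyOfFiniteType.isLocallyNoetherian r
    toCompactSpace := QuasiCompact.compactSpace_of_compactSpace r }
  refine (AmpleHomeo5.isAmple_pullback_iff r hL).1 ?_
  have H : IsPullback (pullback.fst g r) (pullback.snd g r) g r := IsPullback.of_hasPullback g r
  let k := pullback.snd (Scheme.IdealSheafData.vanishingIdeal Z).subschemeι r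
  haveI : IsProper (k ≫ (r ≫ q)) := by
    haveI := hZ
    rw [show k ≫ (r ≫ q) = pullback.fst _ _ ≫ ((Scheme.IdealSheafData.vanishingIdeal Z).subschemeι ≫ q) by
      rw [← Category.assoc, ← pullback.condition, Category.assoc]]
    infer_instance
  refine isAmple_of_norm (r ≫ q) (pullback.snd g r) ⟨r ⁻¹' (Z : Set X), Z.isClosed.preimage r.continuous⟩
    (isProper_vanishing k _ (by
      rw [Scheme.Pullback.range_snd, Scheme.IdealSheafData.range_subschemeι,
        Scheme.IdealSheafData.coe_support_vanishingIdeal]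
      rfl) (r ≫ q)) (fun y hy => ?_) (PicLoc.isInvertible_pullback r hL) ?_
  · rcases goodAt_of_isPullback H y (fun hd => ⟨by haveI := hd; exact stalkMap_injective_of_reduced r y,
      r.stalkMap_surjective y⟩) (hreg _ hy) with h | ⟨T, hT, hf⟩
    · exact Or.inl h
    · exact Or.inr ⟨T, hT, isFinLocFree_of_flat _ T hf⟩
  · rw [RA.isAmple_pullback_comp_iff, RA.isAmple_pullback_congr H.w.symm, ← RA.isAmple_pullback_comp_iff]
    exact Amp.isAmple_pullback_of_isAffineHom _ hamp

/-- Ampleness over an affine open of the base. -/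
theorem ampleOn_of_finite [IsLocallyNoetherian Y] (f : X ⟶ Y) [LocallyOfFiniteType f] [QuasiCompact f]
    {V : Y.Opens} (hV : IsAffineOpen V) (g : X' ⟶ (f ⁻¹ᵁ V).toScheme) [IsFinite g] [Surjective g] (Z : Closeds X)
    (hZ : IsProper ((Scheme.IdealSheafData.vanishingIdeal Z).subschemeι ≫ f))
    (hreg : ∀ y : (f ⁻¹ᵁ V).toScheme, (f ⁻¹ᵁ V).ι y ∉ (Z : Set X) → GoodAt g y)
    {L : X.Modules} (hL : PicF.IsInvertible L)
    (h : CohB1.IsAmple ((Scheme.Modules.pullback g).obj (L.restrict (f ⁻¹ᵁ V).ι))) :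
    RA.AmpleOn L (f ⁻¹ᵁ V) := by
  let W := f ⁻¹ᵁ V
  haveI : IsAffine (V : Scheme.{u}) := hV
  let q : W.toScheme ⟶ Spec (CommRingCat.of Γ(Y, V)) := (f ∣_ V) ≫ hV.isoSpec.hom
  haveI : IsNoetherianRing Γ(Y, V) := IsLocallyNoetherian.component_noetherian ⟨V, hV⟩
  haveI : LocallyOfFiniteType q := inferInstance
  haveI : QuasiCompact (f ∣_ V) := MorphismProperty.of_isPullback (isPullback_morphismRestrict f V).flip inferInstance
  haveI : QuasiCompact q := inferInstance
  let ιZ := (Scheme.IdealSheafData.vanishingIdeal Z).subschemeι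
  haveI : IsClosedImmersion (ιZ ∣_ W) :=
    MorphismProperty.of_isPullback (P := @IsClosedImmersion) (isPullback_morphismRestrict ιZ W).flip inferInstance
  haveI : IsProper ((ιZ ∣_ W) ≫ q) := by
    haveI := hZ
    haveI : IsProper ((ιZ ≫ f) ∣_ V) :=
      MorphismProperty.of_isPullback (P := @IsProper) (isPullback_morphismRestrict _ V).flip inferInstance
    show IsProper ((ιZ ∣_ W) ≫ (f ∣_ V) ≫ hV.isoSpec.hom)
    rw [← Category.assoc, ← morphismRestrict_comp]
    infer_instance
  refine isAmple_affine q g ⟨W.ι ⁻¹' (Z : Set X), Z.isClosed.preimage W.ι.continuous⟩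
    (isProper_vanishing (ιZ ∣_ W) _ ?_ q) hreg (M2.isInvertible_restrict hL W.ι) h
  ext y
  refine ⟨fun ⟨z, hz⟩ => ?_, fun hy => ?_⟩
  · subst hz
    show W.ι ((ιZ ∣_ W) z) ∈ (Z : Set X)
    rw [← Scheme.Hom.comp_apply, morphismRestrict_ι, Scheme.Hom.comp_apply,
      ← Scheme.IdealSheafData.coe_support_vanishingIdeal Z, ← Scheme.IdealSheafData.range_subschemeι]
    exact ⟨_, rfl⟩
  · obtain ⟨z, hz⟩ : W.ι y ∈ Set.range ιZ := by
      rw [Scheme.IdealSheafData.range_subschemeι, Scheme.IdealSheafData.coe_support_vanishingIdeal]; exact hy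
    refine ⟨⟨z, show ιZ z ∈ W from hz.symm ▸ y.2⟩, Subtype.ext ?_⟩
    rw [morphismRestrict_base_coe]
    exact hz

/-- EGA III 2.6.2. -/
theorem isRelAmple_of_pullback [IsLocallyNoetherian Y] (f : X ⟶ Y) [LocallyOfFiniteType f] [QuasiCompact f]
    (g : X' ⟶ X) [IsFinite g] [Surjective g] (Z : Closeds X)
    (hZ : IsProper ((Scheme.IdealSheafData.vanishingIdeal Z).subschemeι ≫ f))
    (hreg : ∀ x : X, x ∉ (Z : Set X) → GoodAt g x)
    {L : X.Modules} (hL : PicF.IsInvertible L) (h : RelAmple.IsRelAmple (g ≫ f) ((Scheme.Modules.pullback g).obj L)) :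
    RelAmple.IsRelAmple f L := by
  refine (RA.isRelAmple_def f).2 fun V hV => ?_
  let W := f ⁻¹ᵁ V
  haveI : IsFinite (g ∣_ W) := MorphismProperty.of_isPullback (isPullback_morphismRestrict g W).flip inferInstance
  haveI : Surjective (g ∣_ W) :=
    MorphismProperty.of_isPullback (P := @Surjective) (isPullback_morphismRestrict g W).flip inferInstance
  refine ampleOn_of_finite f hV (g ∣_ W) Z hZ (fun y hy => ?_) hL
    ((RA.ampleOn_pullback_iff g W).1 ((RA.isRelAmple_def (g ≫ f)).1 h V hV))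
  exact goodAt_of_isPullback (isPullback_morphismRestrict g W).flip y
    (fun _ => ConcreteCategory.bijective_of_isIso (W.ι.stalkMap y)) (hreg _ hy)

end Groth.Agent.AmpleDesc5
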