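import Groth.Agent.Lib.EffCartier.Comap
import Groth.Agent.Lib.ModM1.Ann
import Mathlib.AlgebraicGeometry.Morphisms.Finite
import Mathlib.AlgebraicGeometry.IdealSheaf.Functorial

/-!
# Conductors of finite morphisms that are isomorphisms off a closed set
-/

set_option autoImplicit false
set_option linter.style.haveILetI false
set_option backward.isDefEq.respectTransparency false

universe u

open CategoryTheory Limits AlgebraicGeometry TopologicalSpace Opposite

namespace Groth.Agent.AmpleDesc5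

open Groth.Agent.M1

variable {X X'' : Scheme.{u}} (ν : X'' ⟶ X)

theorem app_injective [IsReduced X] [Surjective ν] (O : X.Opens) : Function.Injective (ν.app O) := by
  refine (injective_iff_map_eq_zero _).2 fun a ha => (basicOpen_eq_bot_iff a).1 (le_bot_iff.1 fun x hx => ?_)
  obtain ⟨y, rfl⟩ := ν.surjective x
  have : y ∈ ν ⁻¹ᵁ X.basicOpen a := hx
  rw [Scheme.preimage_basicOpen, ha, Scheme.basicOpen_zero] at this
  exact this

theorem ores_app' {O O' : X.Opens} (le : O' ≤ O) (a : Γ(X, O)) :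
    ores (ν.preimage_mono le) (ν.app O a) = ν.app O' (ores le a) :=
  (ConcreteCategory.congr_hom (ν.naturality (homOfLE le).op) a).symm

/-- Functions upstairs which are locally from downstairs are from downstairs. -/
theorem exists_app_of_local [IsReduced X] [Surjective ν] {O : X.Opens} (b : Γ(X'', ν ⁻¹ᵁ O))
    (h : ∀ x ∈ O, ∃ (D : X.Opens) (hD : D ≤ O), x ∈ D ∧ ∃ a : Γ(X, D), ν.app D a = ores (ν.preimage_mono hD) b) :
    ∃ a, ν.app O a = b := by
  choose D hD hxD a ha using fun x : O => h x.1 x.2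
  obtain ⟨c, hc, -⟩ := X.sheaf.existsUnique_gluing' D O (fun x => homOfLE (hD x))
    (fun x hx => Opens.mem_iSup.2 ⟨⟨x, hx⟩, hxD _⟩) a fun i j => app_injective ν _ (by
      show ν.app _ (ores (inf_le_left : D i ⊓ D j ≤ D i) (a i)) = ν.app _ (ores (inf_le_right : D i ⊓ D j ≤ D j) (a j))
      rw [← ores_app', ← ores_app', ha, ha, ores_ores, ores_ores])
  refine ⟨c, X''.sheaf.eq_of_locally_eq' (fun x => ν ⁻¹ᵁ D x) _ (fun x => homOfLE (ν.preimage_mono (hD x)))
    (fun y hy => Opens.mem_iSup.2 ⟨⟨ν y, hy⟩, hxD _⟩) _ _ fun x => ?_⟩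
  show ores (ν.preimage_mono (hD x)) (ν.app O c) = ores (ν.preimage_mono (hD x)) b
  rw [ores_app' ν (hD x), show ores (hD x) c = a x from hc x, ha]

/-- Functions upstairs vanishing on the preimage of the closed subscheme come from downstairs. -/
def Pinched (J : X.IdealSheafData) : Prop :=
  ∀ (O : X.Opens) (b : Γ(X'', ν ⁻¹ᵁ O)),
    (J.comap ν).subschemeι.app (ν ⁻¹ᵁ O) b = 0 → ∃ a, ν.app O a = b

theorem Pinched.exists_app [IsReduced X] [Surjective ν] {J : X.IdealSheafData} (h : Pinched ν J) {O : X.Opens}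
    (b : Γ(X'', ν ⁻¹ᵁ O))
    (hb : ∀ x ∈ O, ∃ (D : X.Opens) (hD : D ≤ O), x ∈ D ∧ ∃ a : Γ(X, D),
      (J.comap ν).subschemeι.app (ν ⁻¹ᵁ D) (ores (ν.preimage_mono hD) b) =
        (J.comap ν).subschemeι.app (ν ⁻¹ᵁ D) (ν.app D a)) : ∃ a, ν.app O a = b := by
  refine exists_app_of_local ν b fun x hx => ?_
  obtain ⟨D, hD, hxD, a, ha⟩ := hb x hx
  obtain ⟨a', ha'⟩ := h D (ores (ν.preimage_mono hD) b - ν.app D a) (by rw [map_sub, ha, sub_self])
  exact ⟨D, hD, hxD, a' + a, by rw [map_add, ha', sub_add_cancel]⟩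

/-- An isomorphism over an open induces bijections on smaller opens. -/
theorem app_bijective_of_le {W : X.Opens} [IsIso (ν ∣_ W)] {O : X.Opens} (hO : O ≤ W) :
    Function.Bijective (ν.app O) := by
  have h := (ν ∣_ W).app (W.ι ⁻¹ᵁ O)
  have h1 : IsIso (ν.app (W.ι ''ᵁ (W.ι ⁻¹ᵁ O))) := by
    haveI : IsIso ((ν ∣_ W).app (W.ι ⁻¹ᵁ O)) := inferInstance
    rw [morphismRestrict_app] at this
    exact @IsIso.of_isIso_comp_right _ _ _ _ _ _ _ inferInstance this
  have he : W.ι ''ᵁ (W.ι ⁻¹ᵁ O) = O := by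
    rw [Scheme.Hom.image_preimage_eq_opensRange_inf, Scheme.Opens.opensRange_ι, inf_eq_right]
    exact hO
  exact (ConcreteCategory.isIso_iff_bijective (ν.app O)).1 (he ▸ h1)

variable (Z : Closeds X)

/-- Each affine open has a conductor power. -/
theorem exists_conductor [IsLocallyNoetherian X] [IsReduced X] [IsFinite ν] [Surjective ν]
    [IsIso (ν ∣_ (⟨(Z : Set X)ᶜ, Z.isClosed.isOpen_compl⟩ : X.Opens))] (V : X.affineOpens) :
    ∃ n : ℕ, ∀ a ∈ (Scheme.IdealSheafData.vanishingIdeal Z).ideal V ^ n, ∀ b : Γ(X'', ν ⁻¹ᵁ V.1),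
      ∃ c, ν.app V.1 c = ν.app V.1 a * b := by
  classical
  let φ := (ν.app V.1).hom
  let C : Ideal Γ(X, V.1) :=
    { carrier := {a | ∀ b, ∃ c, φ c = φ a * b}
      zero_mem' := fun b => ⟨0, by simp⟩
      add_mem' := fun {a a'} ha ha' b => by
        obtain ⟨c, hc⟩ := ha b; obtain ⟨c', hc'⟩ := ha' b
        exact ⟨c + c', by rw [map_add, map_add, hc, hc', add_mul]⟩
      smul_mem' := fun r a ha b => by
        obtain ⟨c, hc⟩ := ha b
        exact ⟨r * c, by rw [smul_eq_mul, map_mul, map_mul, hc, mul_assoc]⟩ }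
  haveI : IsNoetherianRing Γ(X, V.1) := IsLocallyNoetherian.component_noetherian V
  suffices h : (Scheme.IdealSheafData.vanishingIdeal Z).ideal V ≤ C.radical by
    obtain ⟨n, hn⟩ := Ideal.exists_pow_le_of_le_radical_of_fg h (IsNoetherian.noetherian _)
    exact ⟨n, fun a ha => hn ha⟩
  intro f hf
  have hVA := V.2.preimage ν
  have hDW : X.basicOpen f ≤ (⟨(Z : Set X)ᶜ, Z.isClosed.isOpen_compl⟩ : X.Opens) := fun x hx hxZ => by
    have hs : ((Scheme.IdealSheafData.vanishingIdeal Z).support : Set X) = Z :=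
      Scheme.IdealSheafData.coe_support_vanishingIdeal Z
    have hx' : x ∈ X.zeroLocus (U := V.1) ((Scheme.IdealSheafData.vanishingIdeal Z).ideal V : Set Γ(X, V.1)) :=
      ((Scheme.IdealSheafData.mem_support_iff_of_mem (X.basicOpen_le f hx)).1 (hs.ge hxZ))
    exact (Scheme.mem_zeroLocus_iff (U := V.1) _ _ x).1 hx' f hf hx
  have key : ∀ b, ∃ k, ∃ c, φ c = φ (f ^ k) * b := fun b => by
    haveI := V.2.isLocalization_basicOpen f
    haveI := hVA.isLocalization_basicOpen (φ f)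
    obtain ⟨a₀, ha₀⟩ := (app_bijective_of_le ν hDW).2 (ores (ν.preimage_mono (X.basicOpen_le f)) b)
    obtain ⟨k, a₁, ha₁⟩ := IsLocalization.Away.surj f a₀
    have ha₁' : a₀ * ores (X.basicOpen_le f) f ^ k = ores (X.basicOpen_le f) a₁ := ha₁
    have e : X''.basicOpen (φ f) = ν ⁻¹ᵁ X.basicOpen f := (ν.preimage_basicOpen f).symm
    have h0 : ores (X''.basicOpen_le (φ f)) (φ (f ^ k) * b - φ a₁) = 0 := by
      have h1 : ores (ν.preimage_mono (X.basicOpen_le f)) (φ (f ^ k) * b - φ a₁) = 0 := by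
        rw [map_sub, map_mul, sub_eq_zero]
        show ores _ (ν.app V.1 (f ^ k)) * _ = ores _ (ν.app V.1 a₁)
        rw [ores_app' ν (X.basicOpen_le f), ores_app' ν (X.basicOpen_le f), ← ha₀, ← map_mul, ← ha₁', map_pow, mul_comm]
      have h2 := congrArg (ores (X := X'') e.le) h1
      rwa [ores_ores, map_zero] at h2
    obtain ⟨⟨_, l, rfl⟩, hl⟩ :=
      (IsLocalization.map_eq_zero_iff (.powers (φ f)) Γ(X'', X''.basicOpen (φ f)) _).1 h0
    refine ⟨l + k, f ^ l * a₁, ?_⟩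
    rw [map_mul, pow_add, map_mul, mul_assoc]
    have hl' : φ (f ^ l) * (φ (f ^ k) * b - φ a₁) = 0 := by rw [map_pow]; exact hl
    rw [mul_sub, sub_eq_zero] at hl'
    exact hl'.symm
  have hfin : φ.Finite := ν.finite_app V.1 V.2
  letI := φ.toAlgebra
  obtain ⟨S, hS⟩ := (hfin : Module.Finite Γ(X, V.1) Γ(X'', ν ⁻¹ᵁ V.1)).fg_top
  choose k hk using key
  refine ⟨S.sup k, fun b => ?_⟩
  have hb : b ∈ Submodule.span Γ(X, V.1) (S : Set Γ(X'', ν ⁻¹ᵁ V.1)) := hS.ge trivial
  induction hb using Submodule.span_induction with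
  | mem b hb =>
    obtain ⟨c, hc⟩ := hk b
    obtain ⟨d, hd⟩ := Nat.exists_eq_add_of_le (Finset.le_sup (f := k) hb)
    exact ⟨f ^ d * c, by rw [map_mul, hc, hd, ← mul_assoc, ← map_mul, ← pow_add, add_comm]⟩
  | zero => exact ⟨0, by simp⟩
  | add b b' _ _ hb hb' =>
    obtain ⟨c, hc⟩ := hb; obtain ⟨c', hc'⟩ := hb'
    exact ⟨c + c', by rw [map_add, hc, hc', mul_add]⟩
  | smul r b _ hb =>
    obtain ⟨c, hc⟩ := hb
    exact ⟨r * c, by rw [map_mul, hc, Algebra.smul_def, RingHom.algebraMap_toAlgebra, mul_left_comm]⟩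

/-- Some power of the ideal of the non-isomorphism locus pinches. -/
theorem exists_pinched [IsNoetherian X] [IsReduced X] [IsFinite ν] [Surjective ν]
    [IsIso (ν ∣_ (⟨(Z : Set X)ᶜ, Z.isClosed.isOpen_compl⟩ : X.Opens))] :
    ∃ n : ℕ, Pinched ν (Scheme.IdealSheafData.vanishingIdeal Z ^ (n + 1)) := by
  classical
  obtain ⟨T, hT⟩ := isCompact_univ.elim_finite_subcover (fun V : X.affineOpens => (V.1 : Set X))
    (fun V => V.1.isOpen) fun x _ => by
      obtain ⟨U, hU, hxU, -⟩ := exists_isAffineOpen_mem_and_subset (show x ∈ (⊤ : X.Opens) from trivial)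
      exact Set.mem_iUnion.2 ⟨⟨U, hU⟩, hxU⟩
  choose n hn using fun V : X.affineOpens => exists_conductor ν Z V
  refine ⟨T.sup n, fun O b hb => exists_app_of_local ν b fun x hx => ?_⟩
  obtain ⟨V, hVT, hxV⟩ := Set.mem_iUnion₂.1 (hT (Set.mem_univ x))
  obtain ⟨r, hrO, hxr⟩ := V.2.exists_basicOpen_le (⟨x, hx⟩ : O) hxV
  let J := Scheme.IdealSheafData.vanishingIdeal Z ^ (T.sup n + 1)
  let D : X.affineOpens := X.affineBasicOpen r
  let b' := ores (ν.preimage_mono hrO) b
  refine ⟨D.1, hrO, hxr, ?_⟩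
  let ι := (J.comap ν).subschemeι
  have hb' : b' ∈ (J.comap ν).ideal ⟨ν ⁻¹ᵁ D.1, D.2.preimage ν⟩ := by
    rw [← (J.comap ν).ker_subschemeι_app, RingHom.mem_ker]
    show ι.app _ (ores (ν.preimage_mono hrO) b) = 0
    rw [← ores_app' ι, hb, map_zero]
  rw [EffCartier.comap_ideal J ν D ⟨ν ⁻¹ᵁ D.1, D.2.preimage ν⟩ le_rfl, ← J.map_ideal_basicOpen V r,
    Ideal.map_map, Ideal.map] at hb'
  have main : ∀ z ∈ Ideal.span (((ν.appLE (X.basicOpen r) (ν ⁻¹ᵁ (X.basicOpen r)) le_rfl).hom.comp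
      (X.presheaf.map (homOfLE (X.basicOpen_le r)).op).hom) '' (J.ideal V : Set Γ(X, V.1))),
      ∀ w : Γ(X'', ν ⁻¹ᵁ (X.basicOpen r)), ∃ c, ν.app (X.basicOpen r) c = z * w := by
    intro z hz
    induction hz using Submodule.span_induction with
    | mem z hz =>
      obtain ⟨a, ha, rfl⟩ := hz
      intro w
      have ha' : a ∈ (Scheme.IdealSheafData.vanishingIdeal Z).ideal V ^ n V := by
        have h1 : a ∈ (Scheme.IdealSheafData.vanishingIdeal Z).ideal V ^ (T.sup n + 1) := ha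
        exact Ideal.pow_le_pow_right ((Finset.le_sup hVT).trans (Nat.le_succ _)) h1
      haveI := (V.2.preimage ν).isLocalization_basicOpen (ν.app V.1 r)
      haveI := V.2.isLocalization_basicOpen r
      have e : X''.basicOpen (ν.app V.1 r) = ν ⁻¹ᵁ (X.basicOpen r) := (ν.preimage_basicOpen r).symm
      obtain ⟨k, w₀, hw₀⟩ := IsLocalization.Away.surj (ν.app V.1 r) (ores (X := X'') e.le w)
      have hw : w * ν.app (X.basicOpen r) (ores (X.basicOpen_le r) r) ^ k = ores (ν.preimage_mono (X.basicOpen_le r)) w₀ := by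
        have h1 := congrArg (ores (X := X'') e.ge) (show ores e.le w *
          ores (X''.basicOpen_le _) (ν.app V.1 r) ^ k = ores (X''.basicOpen_le _) w₀ from hw₀)
        rw [map_mul, map_pow, ores_ores, ores_ores, ores_ores, ores_id] at h1
        show w * ν.app (X.basicOpen r) _ ^ k = _
        rw [← ores_app' ν (X.basicOpen_le r)]
        exact h1
      obtain ⟨c₀, hc₀⟩ := hn V a ha' w₀
      obtain ⟨v, hv⟩ := isUnit_iff_exists_inv.1
        (show IsUnit (ores (X.basicOpen_le r) r) from RingedSpace.isUnit_res_basicOpen X.toRingedSpace r)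
      refine ⟨ores (X.basicOpen_le r) c₀ * v ^ k, ?_⟩
      show ν.app (X.basicOpen r) _ = _
      rw [map_mul, map_pow, ← ores_app' ν (X.basicOpen_le r), hc₀, map_mul, ← hw]
      show ores _ (ν.app V.1 a) * _ * _ = ν.appLE (X.basicOpen r) _ le_rfl (ores (X.basicOpen_le r) a) * w
      rw [ores_app', ← Scheme.Hom.app_eq_appLE]
      have hu : ν.app (X.basicOpen r) (ores (X.basicOpen_le r) r) ^ k * ν.app (X.basicOpen r) v ^ k = 1 := by
        rw [← mul_pow, ← map_mul, hv, map_one, one_pow]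
      rw [mul_assoc, mul_assoc, hu, mul_one]
    | zero => exact fun w => ⟨0, by simp⟩
    | add z z' _ _ hz hz' =>
      intro w
      obtain ⟨c, hc⟩ := hz w; obtain ⟨c', hc'⟩ := hz' w
      exact ⟨c + c', by rw [map_add, hc, hc', add_mul]⟩
    | smul s z _ hz =>
      intro w
      obtain ⟨c, hc⟩ := hz (s * w)
      exact ⟨c, by rw [hc, smul_eq_mul]; ring⟩
  obtain ⟨c, hc⟩ := main b' hb' 1
  exact ⟨c, hc.trans (mul_one _)⟩

end Groth.Agent.AmpleDesc5
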