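import Groth.Agent.Lib.AmpleDesc5.Core
import Groth.Agent.Lib.Norm11.Birational

/-!
# Ampleness descends along finite surjective morphisms of reduced schemes, good off a proper closed subset
-/

set_option autoImplicit false
set_option linter.style.haveILetI false
set_option backward.isDefEq.respectTransparency false

universe u

open CategoryTheory Limits AlgebraicGeometry TopologicalSpace Opposite

namespace Groth.Agent.AmpleDesc5

open Groth.Agent.M1

variable {R : Type u} [CommRing R] [IsNoetherianRing R] {X X' : Scheme.{u}}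

theorem isAmple_of_norm [IsNoetherian X] [IsReduced X] (q : X ⟶ Spec (CommRingCat.of R))
    [LocallyOfFiniteType q] [IsSeparated q] (g : X' ⟶ X) [IsFinite g] [Surjective g] (Z : Closeds X)
    (hZ : IsProper ((Scheme.IdealSheafData.vanishingIdeal Z).subschemeι ≫ q))
    (hreg : ∀ x : X, x ∉ (Z : Set X) → (IsDomain (X.presheaf.stalk x) ∧ IsIntegrallyClosed (X.presheaf.stalk x)) ∨
      ∃ T : X.Opens, x ∈ T ∧ FlatMod.IsFinLocFree (((Coh.push g).obj (Coh.structureModule X')).restrict T.ι))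
    {L : X.Modules} (hL : PicF.IsInvertible L) (hamp : CohB1.IsAmple ((Scheme.Modules.pullback g).obj L)) :
    CohB1.IsAmple L := by
  obtain ⟨N, hN, hcov⟩ := Norm11.exists_R (g := g)
  have hd : ∀ U : X.Opens, (U : Set X).Nonempty → ∃ i : Norm11.Good g N ⊤, ((U : Set X) ∩ i.T).Nonempty :=
    fun U hU => by
      obtain ⟨T, r, e, ⟨y, hyU, hyT⟩, he⟩ := Norm11.exists_isABas_meet (g := g) hU
      obtain ⟨i, hi⟩ := hcov T r e he y hyT
      exact ⟨i, y, hyU, hi⟩
  let ν := Norm11.normHom g N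
  haveI : IsFinite ν := Norm11.isFinite_normHom g N hN
  haveI : Surjective ν := ⟨fun x => by
    have hcl : IsClosed (Set.range ν) := ν.isClosedMap.isClosed_range
    have hV : (Norm11.V0 g N : Set X) ⊆ Set.range ν := fun v hv =>
      ⟨Norm11.toNormScheme g N ⟨v, hv⟩, by
        rw [← Scheme.Hom.comp_apply, Norm11.toNormScheme_normHom]; rfl⟩
    by_contra hx
    obtain ⟨i, y, hy, hyi⟩ := hd ⟨(Set.range ν)ᶜ, hcl.isOpen_compl⟩ ⟨x, fun ⟨z, hz⟩ => hx ⟨z, hz⟩⟩
    exact hy (hV (Opens.mem_iSup.2 ⟨i, hyi⟩))⟩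
  let W : X.Opens := ⟨(Z : Set X)ᶜ, Z.isClosed.isOpen_compl⟩
  haveI : IsIso (ν ∣_ W) := Norm11.isIso_over g N W fun U hU hUW => by
    refine ⟨fun a b hab => Norm11.uniq_of_dense hd U a b fun i => ?_, fun z => ?_⟩
    · have h0 : (Norm11.V0 g N).ι.app U a = (Norm11.V0 g N).ι.app U b := congrArg Subtype.val hab
      have h1 : (Norm11.V0 g N).ι.app i.T (ores i.le a) = (Norm11.V0 g N).ι.app i.T (ores i.le b) := by
        rw [← Norm11.ores_app (g := (Norm11.V0 g N).ι) i.le, ← Norm11.ores_app (g := (Norm11.V0 g N).ι) i.le, h0]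
      have hiV : i.T ≤ Norm11.V0 g N :=
        le_iSup (fun j : Norm11.Good g N ⊤ => j.T) ⟨i.T, le_top, i.r, i.pos, i.dvd, i.e, i.bas⟩
      rw [Scheme.Opens.ι_app] at h1
      refine (ConcreteCategory.bijective_of_isIso (X.presheaf.map (eqToHom ?_).op)).1 (h1.trans (by rfl))
      rw [Scheme.Hom.image_preimage_eq_opensRange_inf, Scheme.Opens.opensRange_ι, inf_eq_right.2 hiV]
    · let S : Subring Γ((Norm11.V0 g N).toScheme, (Norm11.V0 g N).ι ⁻¹ᵁ U) := ((Norm11.V0 g N).ι.app U).hom.range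
      have hle : Norm11.normRing g N U ≤ S := by
        refine Subring.closure_le.2 ?_
        rintro _ (⟨c, rfl⟩ | ⟨a, rfl⟩)
        · exact ⟨c, rfl⟩
        · obtain ⟨c, hc⟩ := Norm11.exists_isNorm hN hcov hd U (fun x hx => hreg x (hUW hx)) a
          refine ⟨c, Norm11.uniq_V0 U _ _ fun i => ?_⟩
          rw [Norm11.nV_spec U a i]
          refine (Norm11.ores_app (g := (Norm11.V0 g N).ι) i.le c).trans ?_
          exact congrArg _ (hc i)
      obtain ⟨c, hc⟩ := hle z.2
      exact ⟨c, Subtype.ext hc⟩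
  exact isAmple_of_pinched q ν Z hZ hL
    (Norm11.isAmple_of_normDatum (Norm11.normSchemeDatum g N hN) hL hamp)

end Groth.Agent.AmpleDesc5
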